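import Mathlib

/-!
# The irreducible components of a closed subset of a locally Noetherian scheme are locally finite
(helper24)
-/

set_option autoImplicit false
set_option linter.style.haveILetI false
universe u
open AlgebraicGeometry CategoryTheory TopologicalSpace Topology

namespace Groth.Agent.Lib.Helper24.LocFinComps

theorem locallyFinite_components (X : Scheme.{u}) [IsLocallyNoetherian X] (Y : Set X)
    (hY : IsClosed Y) :
    LocallyFinite (fun Z : irreducibleComponents ↥Y => (Subtype.val '' (Z : Set ↥Y) : Set X)) := by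
  haveI : QuasiSober ↥Y := hY.isClosedEmbedding_subtypeVal.quasiSober
  intro x
  obtain ⟨_, ⟨W, hW, rfl⟩, hxW, -⟩ :=
    X.isBasis_affineOpens.exists_subset_of_mem_open (Set.mem_univ x) isOpen_univ
  haveI : IsNoetherianRing Γ(X, W) := IsLocallyNoetherian.component_noetherian ⟨W, hW⟩
  haveI : NoetherianSpace ↥(W : Set X) := noetherianSpace_of_isAffineOpen W hW
  haveI : QuasiSober ↥(W : Set X) := W.isOpen.isOpenEmbedding_subtypeVal.quasiSober
  have hYW : IsClosed (Subtype.val ⁻¹' Y : Set ↥(W : Set X)) := hY.preimage continuous_subtype_val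
  obtain ⟨S, hSf, hSc, hSi, hSU⟩ := NoetherianSpace.exists_finite_set_isClosed_irreducible hYW
  refine ⟨(W : Set X), W.isOpen.mem_nhds hxW, ?_⟩
  -- the relation between components meeting `W` and the members of `S`
  have key : ∀ Z : irreducibleComponents ↥Y,
      ((Subtype.val '' (Z : Set ↥Y) : Set X) ∩ (W : Set X)).Nonempty →
      ∃ k : Set ↥(W : Set X), k ∈ S ∧ ∀ κ : ↥(W : Set X), IsGenericPoint κ k →
        ∃ h : κ.1 ∈ Y, (Z : Set ↥Y) = closure {(⟨κ.1, h⟩ : ↥Y)} := by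
    rintro ⟨Z, hZ⟩ ⟨_, ⟨z, hzZ, rfl⟩, hzW⟩
    have hZc : IsClosed Z := isClosed_of_mem_irreducibleComponents Z hZ
    obtain ⟨μ, hμ⟩ := QuasiSober.sober hZ.1 hZc
    have hμz : μ.1 ⤳ z.1 := (hμ.specializes hzZ).map continuous_subtype_val
    have hμW : μ.1 ∈ (W : Set X) := hμz.mem_open W.isOpen hzW
    have hμS : (⟨μ.1, hμW⟩ : ↥(W : Set X)) ∈ ⋃₀ S := by
      rw [← hSU]
      exact μ.2
    obtain ⟨k, hk, hμk⟩ := hμS
    refine ⟨k, hk, fun κ hκ => ?_⟩
    have hκY : κ.1 ∈ Y := by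
      have : κ ∈ ⋃₀ S := ⟨k, hk, hκ.mem⟩
      rw [← hSU] at this
      exact this
    refine ⟨hκY, ?_⟩
    have h1 : κ.1 ⤳ μ.1 := (hκ.specializes hμk).map continuous_subtype_val
    have h2 : (⟨κ.1, hκY⟩ : ↥Y) ⤳ μ := IsInducing.subtypeVal.specializes_iff.mp h1
    have h3 : Z ⊆ closure {(⟨κ.1, hκY⟩ : ↥Y)} := by
      show Z ⊆ _
      rw [← hμ.def]
      exact h2.closure_subset
    exact (hZ.2 isIrreducible_singleton.closure h3).antisymm h3 |>.symm ▸ rfl
  classical
  let f : irreducibleComponents ↥Y → Set ↥(W : Set X) := fun Z =>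
    if h : ((Subtype.val '' (Z : Set ↥Y) : Set X) ∩ (W : Set X)).Nonempty then (key Z h).choose
    else ∅
  refine Set.Finite.of_injOn (f := f) (t := S) ?_ ?_ hSf
  · intro Z hZ
    have hZ' : ((Subtype.val '' (Z : Set ↥Y) : Set X) ∩ (W : Set X)).Nonempty := hZ
    show f Z ∈ S
    simp only [f, dif_pos hZ']
    exact (key Z hZ').choose_spec.1
  · intro Z hZ Z' hZ' hff
    have h1 : ((Subtype.val '' (Z : Set ↥Y) : Set X) ∩ (W : Set X)).Nonempty := hZ
    have h2 : ((Subtype.val '' (Z' : Set ↥Y) : Set X) ∩ (W : Set X)).Nonempty := hZ'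
    simp only [f, dif_pos h1, dif_pos h2] at hff
    obtain ⟨hk, hgen⟩ := (key Z h1).choose_spec
    obtain ⟨hk', hgen'⟩ := (key Z' h2).choose_spec
    rw [← hff] at hk' hgen'
    obtain ⟨κ, hκ⟩ := QuasiSober.sober (hSi _ hk) (hSc _ hk)
    obtain ⟨h, e⟩ := hgen κ hκ
    obtain ⟨h', e'⟩ := hgen' κ hκ
    exact Subtype.ext (e.trans e'.symm)

end Groth.Agent.Lib.Helper24.LocFinComps
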